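import Cfsg.Agent.Lib.Helper9.TCData.U62Q1.Main

set_option autoImplicit false
set_option maxRecDepth 1000000

namespace Cfsg.Agent.Helper9.TCData.U62Q1
open Cfsg.Agent.Helper9.TC2

theorem m1_0 : allRange 0 708 (fun u => chkM1 tab u) = true := by decide +kernel

theorem m1_1 : allRange 708 700 (fun u => chkM1 tab u) = true := by decide +kernel

theorem m2_0 : allRange 0 40 (fun u => chkFix tab mwords u) = true := by decide +kernel

theorem m2_1 : allRange 40 40 (fun u => chkFix tab mwords u) = true := by decide +kernel

theorem m2_2 : allRange 80 40 (fun u => chkFix tab mwords u) = true := by decide +kernel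

theorem m2_3 : allRange 120 40 (fun u => chkFix tab mwords u) = true := by decide +kernel

theorem m2_4 : allRange 160 40 (fun u => chkFix tab mwords u) = true := by decide +kernel

theorem m2_5 : allRange 200 40 (fun u => chkFix tab mwords u) = true := by decide +kernel


end Cfsg.Agent.Helper9.TCData.U62Q1
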