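import Cfsg.Agent.Lib.Helper9.TCData.U62Q1.S0
import Cfsg.Agent.Lib.Helper9.TCData.U62Q1.S1
import Cfsg.Agent.Lib.Helper9.TCData.U62Q1.S2
import Cfsg.Agent.Lib.Helper9.TCData.U62Q1.S3
import Cfsg.Agent.Lib.Helper9.TCData.U62Q1.S4
import Cfsg.Agent.Lib.Helper9.TCData.U62Q1.S5
import Cfsg.Agent.Lib.Helper9.TCData.U62Q1.S6
import Cfsg.Agent.Lib.Helper9.TCData.U62Q1.S7
import Cfsg.Agent.Lib.Helper9.TCData.U62Q1.S8

set_option autoImplicit false
set_option maxRecDepth 1000000

namespace Cfsg.Agent.Helper9.TCData.U62Q1
open Cfsg.Agent.Helper9.TC2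


theorem hE0 : ∀ u < 1410, chkE tab 0 u = true := by
  have h0 : ∀ u < 0, (fun u => chkE tab 0 u) u = true := range_zero
  have h1 : ∀ u < 1410, (fun u => chkE tab 0 u) u = true := ext_range (a := 0) (len := 1410) h0 e0_0
  exact h1

theorem hE1 : ∀ u < 1410, chkE tab 1 u = true := by
  have h0 : ∀ u < 0, (fun u => chkE tab 1 u) u = true := range_zero
  have h1 : ∀ u < 1410, (fun u => chkE tab 1 u) u = true := ext_range (a := 0) (len := 1410) h0 e1_0
  exact h1

theorem hE2 : ∀ u < 1410, chkE tab 2 u = true := by
  have h0 : ∀ u < 0, (fun u => chkE tab 2 u) u = true := range_zero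
  have h1 : ∀ u < 1410, (fun u => chkE tab 2 u) u = true := ext_range (a := 0) (len := 1410) h0 e2_0
  exact h1

theorem hE3 : ∀ u < 1410, chkE tab 3 u = true := by
  have h0 : ∀ u < 0, (fun u => chkE tab 3 u) u = true := range_zero
  have h1 : ∀ u < 1410, (fun u => chkE tab 3 u) u = true := ext_range (a := 0) (len := 1410) h0 e3_0
  exact h1

theorem hE4 : ∀ u < 1410, chkE tab 4 u = true := by
  have h0 : ∀ u < 0, (fun u => chkE tab 4 u) u = true := range_zero
  have h1 : ∀ u < 1410, (fun u => chkE tab 4 u) u = true := ext_range (a := 0) (len := 1410) h0 e4_0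
  exact h1

theorem hE5 : ∀ u < 1410, chkE tab 5 u = true := by
  have h0 : ∀ u < 0, (fun u => chkE tab 5 u) u = true := range_zero
  have h1 : ∀ u < 1410, (fun u => chkE tab 5 u) u = true := ext_range (a := 0) (len := 1410) h0 e5_0
  exact h1

theorem hE6 : ∀ u < 1410, chkE tab 6 u = true := by
  have h0 : ∀ u < 0, (fun u => chkE tab 6 u) u = true := range_zero
  have h1 : ∀ u < 1410, (fun u => chkE tab 6 u) u = true := ext_range (a := 0) (len := 1410) h0 e6_0
  exact h1

theorem hE7 : ∀ u < 1410, chkE tab 7 u = true := by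
  have h0 : ∀ u < 0, (fun u => chkE tab 7 u) u = true := range_zero
  have h1 : ∀ u < 1410, (fun u => chkE tab 7 u) u = true := ext_range (a := 0) (len := 1410) h0 e7_0
  exact h1

theorem hE8 : ∀ u < 1410, chkE tab 8 u = true := by
  have h0 : ∀ u < 0, (fun u => chkE tab 8 u) u = true := range_zero
  have h1 : ∀ u < 1410, (fun u => chkE tab 8 u) u = true := ext_range (a := 0) (len := 1410) h0 e8_0
  exact h1

theorem hL : ∀ u < 1410, chkL tab u = true := by
  have h0 : ∀ u < 0, (fun u => chkL tab u) u = true := range_zero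
  have h1 : ∀ u < 1410, (fun u => chkL tab u) u = true := ext_range (a := 0) (len := 1410) h0 l_0
  exact h1

theorem hF : ∀ u < 1408, chkFin tab u = true := by
  have h0 : ∀ u < 0, (fun u => chkFin tab u) u = true := range_zero
  have h1 : ∀ u < 276, (fun u => chkFin tab u) u = true := ext_range (a := 0) (len := 276) h0 f_0
  have h2 : ∀ u < 552, (fun u => chkFin tab u) u = true := ext_range (a := 276) (len := 276) h1 f_1
  have h3 : ∀ u < 828, (fun u => chkFin tab u) u = true := ext_range (a := 552) (len := 276) h2 f_2
  have h4 : ∀ u < 1104, (fun u => chkFin tab u) u = true := ext_range (a := 828) (len := 276) h3 f_3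
  have h5 : ∀ u < 1380, (fun u => chkFin tab u) u = true := ext_range (a := 1104) (len := 276) h4 f_4
  have h6 : ∀ u < 1408, (fun u => chkFin tab u) u = true := ext_range (a := 1380) (len := 28) h5 f_5
  exact h6

theorem hC : ∀ u < 1410, chkCls tab u = true := by
  have h0 : ∀ u < 0, (fun u => chkCls tab u) u = true := range_zero
  have h1 : ∀ u < 1410, (fun u => chkCls tab u) u = true := ext_range (a := 0) (len := 1410) h0 c_0
  exact h1

theorem hM1 : ∀ u < 1408, chkM1 tab u = true := by
  have h0 : ∀ u < 0, (fun u => chkM1 tab u) u = true := range_zero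
  have h1 : ∀ u < 708, (fun u => chkM1 tab u) u = true := ext_range (a := 0) (len := 708) h0 m1_0
  have h2 : ∀ u < 1408, (fun u => chkM1 tab u) u = true := ext_range (a := 708) (len := 700) h1 m1_1
  exact h2

theorem hM2 : ∀ u < 1408, chkFix tab mwords u = true := by
  have h0 : ∀ u < 0, (fun u => chkFix tab mwords u) u = true := range_zero
  have h1 : ∀ u < 40, (fun u => chkFix tab mwords u) u = true := ext_range (a := 0) (len := 40) h0 m2_0
  have h2 : ∀ u < 80, (fun u => chkFix tab mwords u) u = true := ext_range (a := 40) (len := 40) h1 m2_1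
  have h3 : ∀ u < 120, (fun u => chkFix tab mwords u) u = true := ext_range (a := 80) (len := 40) h2 m2_2
  have h4 : ∀ u < 160, (fun u => chkFix tab mwords u) u = true := ext_range (a := 120) (len := 40) h3 m2_3
  have h5 : ∀ u < 200, (fun u => chkFix tab mwords u) u = true := ext_range (a := 160) (len := 40) h4 m2_4
  have h6 : ∀ u < 240, (fun u => chkFix tab mwords u) u = true := ext_range (a := 200) (len := 40) h5 m2_5
  have h7 : ∀ u < 280, (fun u => chkFix tab mwords u) u = true := ext_range (a := 240) (len := 40) h6 m2_6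
  have h8 : ∀ u < 320, (fun u => chkFix tab mwords u) u = true := ext_range (a := 280) (len := 40) h7 m2_7
  have h9 : ∀ u < 360, (fun u => chkFix tab mwords u) u = true := ext_range (a := 320) (len := 40) h8 m2_8
  have h10 : ∀ u < 400, (fun u => chkFix tab mwords u) u = true := ext_range (a := 360) (len := 40) h9 m2_9
  have h11 : ∀ u < 440, (fun u => chkFix tab mwords u) u = true := ext_range (a := 400) (len := 40) h10 m2_10
  have h12 : ∀ u < 480, (fun u => chkFix tab mwords u) u = true := ext_range (a := 440) (len := 40) h11 m2_11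
  have h13 : ∀ u < 520, (fun u => chkFix tab mwords u) u = true := ext_range (a := 480) (len := 40) h12 m2_12
  have h14 : ∀ u < 560, (fun u => chkFix tab mwords u) u = true := ext_range (a := 520) (len := 40) h13 m2_13
  have h15 : ∀ u < 600, (fun u => chkFix tab mwords u) u = true := ext_range (a := 560) (len := 40) h14 m2_14
  have h16 : ∀ u < 640, (fun u => chkFix tab mwords u) u = true := ext_range (a := 600) (len := 40) h15 m2_15
  have h17 : ∀ u < 680, (fun u => chkFix tab mwords u) u = true := ext_range (a := 640) (len := 40) h16 m2_16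
  have h18 : ∀ u < 720, (fun u => chkFix tab mwords u) u = true := ext_range (a := 680) (len := 40) h17 m2_17
  have h19 : ∀ u < 760, (fun u => chkFix tab mwords u) u = true := ext_range (a := 720) (len := 40) h18 m2_18
  have h20 : ∀ u < 800, (fun u => chkFix tab mwords u) u = true := ext_range (a := 760) (len := 40) h19 m2_19
  have h21 : ∀ u < 840, (fun u => chkFix tab mwords u) u = true := ext_range (a := 800) (len := 40) h20 m2_20
  have h22 : ∀ u < 880, (fun u => chkFix tab mwords u) u = true := ext_range (a := 840) (len := 40) h21 m2_21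
  have h23 : ∀ u < 920, (fun u => chkFix tab mwords u) u = true := ext_range (a := 880) (len := 40) h22 m2_22
  have h24 : ∀ u < 960, (fun u => chkFix tab mwords u) u = true := ext_range (a := 920) (len := 40) h23 m2_23
  have h25 : ∀ u < 1000, (fun u => chkFix tab mwords u) u = true := ext_range (a := 960) (len := 40) h24 m2_24
  have h26 : ∀ u < 1040, (fun u => chkFix tab mwords u) u = true := ext_range (a := 1000) (len := 40) h25 m2_25
  have h27 : ∀ u < 1080, (fun u => chkFix tab mwords u) u = true := ext_range (a := 1040) (len := 40) h26 m2_26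
  have h28 : ∀ u < 1120, (fun u => chkFix tab mwords u) u = true := ext_range (a := 1080) (len := 40) h27 m2_27
  have h29 : ∀ u < 1160, (fun u => chkFix tab mwords u) u = true := ext_range (a := 1120) (len := 40) h28 m2_28
  have h30 : ∀ u < 1200, (fun u => chkFix tab mwords u) u = true := ext_range (a := 1160) (len := 40) h29 m2_29
  have h31 : ∀ u < 1240, (fun u => chkFix tab mwords u) u = true := ext_range (a := 1200) (len := 40) h30 m2_30
  have h32 : ∀ u < 1280, (fun u => chkFix tab mwords u) u = true := ext_range (a := 1240) (len := 40) h31 m2_31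
  have h33 : ∀ u < 1320, (fun u => chkFix tab mwords u) u = true := ext_range (a := 1280) (len := 40) h32 m2_32
  have h34 : ∀ u < 1360, (fun u => chkFix tab mwords u) u = true := ext_range (a := 1320) (len := 40) h33 m2_33
  have h35 : ∀ u < 1400, (fun u => chkFix tab mwords u) u = true := ext_range (a := 1360) (len := 40) h34 m2_34
  have h36 : ∀ u < 1408, (fun u => chkFix tab mwords u) u = true := ext_range (a := 1400) (len := 8) h35 m2_35
  exact h36

theorem hE : ∀ c < 9, ∀ u < 1410, chkE tab c u = true := by
  intro c hc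
  interval_cases c
  · exact hE0
  · exact hE1
  · exact hE2
  · exact hE3
  · exact hE4
  · exact hE5
  · exact hE6
  · exact hE7
  · exact hE8

end Cfsg.Agent.Helper9.TCData.U62Q1
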